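import Cfsg.Agent.Lib.AltModule.P5.M3.Def

/-!
Checks for piece 1 of the certificate.
-/

namespace Cfsg.Agent.AltMod.P5.M3

theorem fix1_1 : mdl.fixOk 5 ((subs.getD 26 ([], [])).1) v1 k1 0x400000002000400030001000100010004000400000000000200010002000400040000000100040003000300010002000000020000000200020002000200040003000400020004000200040003000200030002000400000004000100020001000200030003000100040004000400020004000300030004000400020001000400030002000200040001000300040004000300020003000100040004000000010000000300030000000100020000000200040001000300010001000100000004000400020004000300040000000100040004000000040002000100020003000400000003000100010000000400040002 = true := by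
  decide +kernel

theorem fix1_2 : mdl.fixOk 5 ((subs.getD 26 ([], [])).2) v1 k1 0x400020003000000000004000200030001000400000003000000040003000000030001000100010001000200030003000100040003000000010000000400010004000400030002000300000002000000010002000300030001000000020004000400010000000200010004000000030001000200010000000000000001000400030002000100010000000400040001000200000002000300000004000000030004000100040000000300000003000400000001000000000000000300000002000400010001000000030002000100030004000200020001000200000000000000020004000200000002000300000004 = true := by
  decide +kernel

theorem spin1_0 : mdl.spinOk 5 v1 e1 0 50 = true := by decide +kernel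

theorem spin1_1 : mdl.spinOk 5 v1 e1 50 50 = true := by decide +kernel

theorem spin1_2 : mdl.spinOk 5 v1 e1 100 33 = true := by decide +kernel

theorem spin1_len : e1.length = 133 := by decide +kernel

theorem spin1 : ∀ i < (e1.length + 49) / 50,
    mdl.spinOk 5 v1 e1 (50 * i) (min 50 (e1.length - 50 * i)) = true := by
  rw [spin1_len]
  intro i hi
  interval_cases i
  · exact spin1_0
  · exact spin1_1
  · exact spin1_2

end Cfsg.Agent.AltMod.P5.M3
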